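import Groth.Agent.S2561
import Groth.Agent.Lib.EtLocal.PointFibre
import Groth.Agent.Lib.AlgMisc.GeomRegLocal
import Groth.Agent.Lib.Hensel.RegularTransfer
import Groth.Agent.Lib.CMFree.Regular
import Groth.Agent.Lib.OpenAt.Basic
import Groth.Prelude.Def_Found
import Mathlib

/-!
# Smoothness from universal openness and geometric regularity of the fibre
-/

set_option autoImplicit false
set_option backward.isDefEq.respectTransparency false
universe u

open CategoryTheory CategoryTheory.Limits AlgebraicGeometry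

noncomputable section

namespace Groth.Agent.SmoothUnivOpen4

/-- The stalk algebra over the base field, as a morphism of schemes. -/
theorem specMap_stalkMap (k : Type u) [Field k] (X : Scheme.{u}) [X.Over (Spec (CommRingCat.of k))] (x : X) :
    Spec.map (CommRingCat.ofHom (Curv2.stalkMap k X x)) =
      X.fromSpecStalk x ≫ (X ↘ Spec (CommRingCat.of k)) := by
  set q := X ↘ Spec (CommRingCat.of k)
  have h1 : CommRingCat.ofHom (Curv2.stalkMap k X x) =
      (Scheme.ΓSpecIso (CommRingCat.of k)).inv ≫ q.appTop ≫ X.presheaf.germ ⊤ x trivial := rfl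
  rw [h1, Spec.map_comp, Spec.map_comp, ← Scheme.fromSpecStalk_toSpecΓ, Category.assoc, Category.assoc]
  refine congrArg (X.fromSpecStalk x ≫ ·) ?_
  rw [← Scheme.toSpecΓ_naturality_assoc, toSpecΓ_SpecMap_ΓSpecIso_inv, Category.comp_id]

variable {X Y : Scheme.{u}} (f : X ⟶ Y) (x : X)

/-- The residue field of the base point. -/
abbrev BaseField : Type u := IsLocalRing.ResidueField (Y.presheaf.stalk (f x))

/-- The fibre over the base point, over its residue field. -/
@[reducible] def fibreOver : (f.fiber (f x)).Over (Spec (CommRingCat.of (BaseField f x))) :=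
  ⟨f.fiberToSpecResidueField (f x)⟩

attribute [local instance] Curv2.stalkAlgebra fibreOver

/-- The algebra of the residue field on the ring of the fibre at the point. -/
@[reducible] def quotAlgebra : Algebra (BaseField f x)
    (X.presheaf.stalk x ⧸ (IsLocalRing.maximalIdeal (Y.presheaf.stalk (f x))).map (f.stalkMap x).hom) :=
  (Ideal.quotientMap ((IsLocalRing.maximalIdeal (Y.presheaf.stalk (f x))).map (f.stalkMap x).hom)
    (f.stalkMap x).hom Ideal.le_comap_map).toAlgebra

attribute [local instance] quotAlgebra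

theorem nonempty_algEquiv (z : f.fiber (f x)) (hz : f.fiberι (f x) z = x) :
    Nonempty ((X.presheaf.stalk x ⧸ (IsLocalRing.maximalIdeal (Y.presheaf.stalk (f x))).map (f.stalkMap x).hom)
      ≃ₐ[BaseField f x] (f.fiber (f x)).presheaf.stalk z) := by
  obtain ⟨hsurj, hker⟩ := GrothLib.FibreFlat.fiberι_stalkMap' f (f x) z x hz
  set σ := (X.presheaf.stalkCongr (.of_eq hz.symm)).hom ≫ (f.fiberι (f x)).stalkMap z with hσ
  have key : Y.residue (f x) ≫ CommRingCat.ofHom (Curv2.stalkMap (BaseField f x) (f.fiber (f x)) z) =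
      f.stalkMap x ≫ σ := by
    apply Spec.map_injective
    rw [← cancel_mono (Y.fromSpecStalk (f x)), Spec.map_comp, Spec.map_comp, Category.assoc, Category.assoc]
    erw [specMap_stalkMap]
    rw [Category.assoc, Scheme.SpecMap_stalkMap_fromSpecStalk, hσ, Spec.map_comp, Category.assoc,
      TopCat.Presheaf.stalkCongr_hom, Scheme.SpecMap_stalkSpecializes_fromSpecStalk_assoc,
      Scheme.SpecMap_stalkMap_fromSpecStalk_assoc]
    refine congrArg ((f.fiber (f x)).fromSpecStalk z ≫ ·) ?_
    exact (f.fiber_fac (f x)).symm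
  refine ⟨AlgEquiv.ofRingEquiv
    (f := (Ideal.quotEquivOfEq hker.symm).trans (RingHom.quotientKerEquivOfSurjective hsurj)) fun a => ?_⟩
  obtain ⟨r, rfl⟩ := IsLocalRing.residue_surjective a
  exact (congrArg (fun t : Y.presheaf.stalk (f x) ⟶ (f.fiber (f x)).presheaf.stalk z => t.hom r) key).symm

/-- Smoothness of the fibre at a point is geometric regularity of the quotient ring. -/
theorem mem_smoothLocus_iff [LocallyOfFinitePresentation f] (z : f.fiber (f x)) (hz : f.fiberι (f x) z = x) :
    z ∈ (f.fiberToSpecResidueField (f x)).smoothLocus ↔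
      CAlg.IsGeometricallyRegular (BaseField f x)
        (X.presheaf.stalk x ⧸ (IsLocalRing.maximalIdeal (Y.presheaf.stalk (f x))).map (f.stalkMap x).hom) := by
  obtain ⟨e⟩ := nonempty_algEquiv f x z hz
  let F := f.fiber (f x)
  haveI : LocallyOfFinitePresentation (f.fiberToSpecResidueField (f x)) :=
    MorphismProperty.pullback_snd f _ inferInstance
  haveI : LocallyOfFinitePresentation (F ↘ Spec (CommRingCat.of (BaseField f x))) :=
    ‹LocallyOfFinitePresentation (f.fiberToSpecResidueField (f x))›
  haveI : IsLocallyNoetherian F :=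
    LocallyOfFiniteType.isLocallyNoetherian (F ↘ Spec (CommRingCat.of (BaseField f x)))
  constructor
  · intro h
    refine GrothLib.Hensel.isGeometricallyRegular_congr e.symm ?_
    refine Lib.AlgMisc.GeomRegLocal.isGeometricallyRegular_stalk z fun k' _ _ _ _ w hw => ?_
    haveI : Algebra.EssFiniteType (BaseField f x) k' := inferInstance
    exact Lib.AlgMisc.GeomRegAt.isGeomRegularAt_of_mem_smoothLocus F h k'
      (IntermediateField.fg_top_iff.mpr inferInstance) w hw
  · intro h
    exact Lib.AlgMisc.GeomRegAt.mem_smoothLocus_of_isGeomRegularAt F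
      (Lib.AlgMisc.GeomRegLocal.isGeomRegularAt_of_isGeometricallyRegular z
        (GrothLib.Hensel.isGeometricallyRegular_congr e h))

theorem smooth_nhd_iff [IsLocallyNoetherian Y] [LocallyOfFiniteType f]
    (hred : _root_.IsReduced (Y.presheaf.stalk (f x))) :
    (∃ U : X.Opens, x ∈ U ∧ Smooth (U.ι ≫ f)) ↔
      (∃ W : X.Opens, x ∈ W ∧ ∀ x' ∈ W, f x' = f x → EGA43.IsUnivOpenAt f x') ∧
        CAlg.IsGeometricallyRegular (BaseField f x)
          (X.presheaf.stalk x ⧸ (IsLocalRing.maximalIdeal (Y.presheaf.stalk (f x))).map (f.stalkMap x).hom) := by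
  haveI : LocallyOfFinitePresentation f := GrothLib.LocProp.locallyOfFinitePresentation_of_isLocallyNoetherian f
  let F := f.fiber (f x)
  let z : F := f.asFiber x
  have hz : f.fiberι (f x) z = x := f.fiberι_asFiber x
  haveI : LocallyOfFinitePresentation (f.fiberToSpecResidueField (f x)) :=
    MorphismProperty.pullback_snd f _ inferInstance
  constructor
  · rintro ⟨U, hxU, hU⟩
    refine ⟨⟨U, hxU, fun x' hx' _ => ?_⟩, (mem_smoothLocus_iff f x z hz).mp ?_⟩
    · intro Y' g p hp s hs
      obtain ⟨O, hOs, hO, hpO⟩ := mem_nhds_iff.mp hs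
      let j : pullback (U.ι ≫ f) g ⟶ pullback f g :=
        pullback.map _ _ _ _ U.ι (𝟙 _) (𝟙 _) (by simp) (by simp)
      have hj1 : j ≫ pullback.fst f g = pullback.fst (U.ι ≫ f) g ≫ U.ι := pullback.lift_fst _ _ _
      have hj2 : j ≫ pullback.snd f g = pullback.snd (U.ι ≫ f) g :=
        (pullback.lift_snd _ _ _).trans (Category.comp_id _)
      have hsq : IsPullback j (pullback.fst (U.ι ≫ f) g) (pullback.fst f g) U.ι :=
        (IsPullback.of_right (hj2.symm ▸ (IsPullback.of_hasPullback (U.ι ≫ f) g).flip) hj1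
          (IsPullback.of_hasPullback f g).flip)
      obtain ⟨q, hq, -⟩ := Scheme.exists_preimage_of_isPullback hsq p ⟨x', hx'⟩ hp
      haveI := hU
      haveI : UniversallyOpen (U.ι ≫ f) := inferInstance
      have hopen : IsOpenMap (pullback.snd (U.ι ≫ f) g).base :=
        Scheme.Hom.isOpenMap (pullback.snd (U.ι ≫ f) g)
      refine Filter.mem_of_superset ((hopen _ (hO.preimage j.continuous)).mem_nhds
        ⟨q, show j q ∈ O from hq.symm ▸ hpO, ?_⟩) ?_
      · rw [← hq, ← Scheme.Hom.comp_apply j (pullback.snd f g)]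
        simp only [j, pullback.lift_snd, Category.comp_id]
      · rintro _ ⟨a, ha, rfl⟩
        refine ⟨j a, hOs ha, ?_⟩
        rw [← Scheme.Hom.comp_apply j (pullback.snd f g)]
        simp only [j, pullback.lift_snd, Category.comp_id]
    · rw [← GrothLib.LocProp.smooth_nhd_iff]
      exact GrothLib.LocProp.nhd_of_isPullback (W := @Smooth)
        (IsPullback.of_hasPullback f (Y.fromSpecResidueField (f x))) z ⟨U, hz.symm ▸ hxU, hU⟩
  · rintro ⟨⟨W, hxW, hW⟩, hreg⟩
    have hsm := (mem_smoothLocus_iff f x z hz).mpr hreg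
    have hnhd : ∃ V : F.Opens, z ∈ V ∧ Smooth (V.ι ≫ f.fiberToSpecResidueField (f x)) :=
      (GrothLib.LocProp.smooth_nhd_iff _ z).mpr hsm
    refine GrothLib.EtLocal.smooth_nhd_of_flat_of_fibre_nhd f x
      (Groth.Agent.S2561.result f x (fun w hw _ => ?_) (fun K _ _ w hw => ?_) hred) z hz hnhd
    · refine hW _ ?_ (GrothLib.FibreFlat.fiberι_comp_apply f (f x) w)
      have h1 : w ⤳ z := specializes_iff_mem_closure.mpr hw
      exact (hz ▸ h1.map (f.fiberι (f x)).continuous).mem_open W.2 hxW
    · let g := Spec.map (CommRingCat.ofHom (algebraMap (BaseField f x) K))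
      haveI : LocallyOfFinitePresentation (pullback.snd (f.fiberToSpecResidueField (f x)) g) :=
        MorphismProperty.pullback_snd _ _ inferInstance
      obtain ⟨V, hzV, hV⟩ := hnhd
      have hw' : w ∈ (pullback.snd (f.fiberToSpecResidueField (f x)) g).smoothLocus := by
        rw [← GrothLib.LocProp.smooth_nhd_iff]
        exact GrothLib.LocProp.nhd_of_isPullback (W := @Smooth)
          (IsPullback.of_hasPullback (f.fiberToSpecResidueField (f x)) g) w ⟨V, hw.symm ▸ hzV, hV⟩
      haveI := Lib.AlgMisc.GeomRegAt.isRegularLocalRing_stalk_of_mem_smoothLocus _ hw'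
      haveI : IsDomain ((pullback (f.fiberToSpecResidueField (f x)) g).presheaf.stalk w) :=
        GrothLib.CMFree.isDomain_of_isRegularLocalRing _
      exact (inferInstance : _root_.IsReduced ((pullback (f.fiberToSpecResidueField (f x)) g).presheaf.stalk w))

end Groth.Agent.SmoothUnivOpen4
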